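import Groth.Agent.IsoNatCleanOpenLib.Locus
import Groth.Agent.IsoNatClean.Ops
import Groth.Agent.AlgStLib.Substack
import Groth.Agent.AlgStLib.Descent
import Groth.Agent.AlgSpLib.Qc

/-!
# The clean locus of a stack with proper inertia is open and retrocompact
-/

set_option autoImplicit false
set_option linter.style.haveILetI false
set_option backward.isDefEq.respectTransparency false
set_option backward.isDefEq.respectTransparency.types false
universe u

open CategoryTheory CategoryTheory.Limits AlgebraicGeometry Opposite AlgSp FibCat FibLib AlgStLib IsoNat IsoNatLib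
open IsoNatUnr IsoNatClean
open CategoryTheory.Functor (Fiber IsStronglyCartesian)

noncomputable section

namespace CleanOpenLib

variable {S : Scheme.{u}} {𝒳 : AlgSt.Cat S}

theorem isClean_of_hom {S : Scheme.{u}} {𝒳 : AlgSt.Cat S} {a b : 𝒳.obj} (m : b ⟶ a) (h : IsClean a) : IsClean b :=
  fun x n s hs => h x (n ≫ m) s hs

theorem isClean_iff_of_pullbacks [IsFibGrpd 𝒳.p] {T' T : Over S} {g : T' ⟶ T} {a b c : 𝒳.obj} (m : a ⟶ c)
    (hm : 𝒳.p.IsHomLift g m) (n : b ⟶ c) (hn : 𝒳.p.IsHomLift g n) : IsClean a ↔ IsClean b := by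
  haveI := hm; haveI := hn
  exact ⟨isClean_of_hom (IsStronglyCartesian.map 𝒳.p g m (g := 𝟙 T') (f' := g) (Category.id_comp _).symm n),
    isClean_of_hom (IsStronglyCartesian.map 𝒳.p g n (g := 𝟙 T') (f' := g) (Category.id_comp _).symm m)⟩

/-- An object is clean iff the base change of the inertia is a monomorphism. -/
theorem isClean_iff_mono [IsFibGrpd 𝒳.p] {V : Over S} (Y : overCat V ⥤ᵇ 𝒳) {H : Sp S} {aH : H ⟶ (yon S).obj V}
    (C : IsoNatLib.Classifier (inertiaToBase (toSelf 𝒳)) (yV Y) aH) {T' : Over S} (g : T' ⟶ V) :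
    IsClean (Y.obj (Over.mk g)) ↔ Mono (pullback.snd aH ((yon S).map g)) := by
  constructor
  · intro hc
    refine AlgSpLib.mono_of_injective fun R a b e => ?_
    obtain ⟨h, hh⟩ := (yon S).map_surjective (a ≫ pullback.snd aH ((yon S).map g))
    let o' : Over V := Over.mk (h ≫ g)
    let m : o' ⟶ Over.mk g := Over.homMk h rfl
    have key : ∀ s : (yon S).obj R ⟶ pullback aH ((yon S).map g),
        s ≫ pullback.snd aH ((yon S).map g) = (yon S).map h →
        s ≫ pullback.fst aH ((yon S).map g) = acls Y C o' (𝟙 _) (lift_id Y o') := by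
      intro s hs
      have hsec : (s ≫ pullback.fst aH ((yon S).map g)) ≫ aH = (yon S).map o'.hom := by
        rw [Category.assoc, pullback.condition, ← Category.assoc, hs, ← Functor.map_comp]; rfl
      obtain ⟨k, hk, hk'⟩ := exists_of_acls Y C o' (s ≫ pullback.fst aH ((yon S).map g)) hsec
      obtain rfl : k = 𝟙 _ := hc (Y.obj o') (Y.map m) k (map_vert Y hk)
      exact hk'.symm
    refine pullback.hom_ext ?_ e
    rw [key a hh.symm, key b (e.symm.trans hh.symm)]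
  · intro hm b m s hs
    let R := 𝒳.p.obj b
    let h : R ⟶ T' := 𝒳.p.map m ≫ eqToHom (Y.w_obj (Over.mk g))
    haveI hmh : 𝒳.p.IsHomLift h m := IsHomLift.of_fac _ _ _ rfl (Y.w_obj (Over.mk g)) (by simp [h])
    let o' : Over V := Over.mk (h ≫ g)
    let mo : o' ⟶ Over.mk g := Over.homMk h rfl
    haveI : 𝒳.p.IsHomLift h (Y.map mo) := lift_map Y mo
    let θ : b ⟶ Y.obj o' := IsStronglyCartesian.map 𝒳.p h (Y.map mo) (g := 𝟙 R) (f' := h)
      (Category.id_comp _).symm m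
    haveI hθ : 𝒳.p.IsHomLift (𝟙 R) θ := IsStronglyCartesian.map_isHomLift 𝒳.p h (Y.map mo) (g := 𝟙 R) (f' := h)
      (Category.id_comp _).symm m
    haveI : IsIso θ := isIso_of_isHomLift 𝒳.p (𝟙 R) θ
    haveI : 𝒳.p.IsHomLift (𝟙 R) (inv θ) := @IsHomLift.lift_id_inv _ _ _ _ 𝒳.p _ _ _ (asIso θ) hθ
    haveI hsl : 𝒳.p.IsHomLift (𝟙 R) s := IsHomLift.of_fac' 𝒳.p (𝟙 R) s rfl rfl (by simp [hs])
    haveI : 𝒳.p.IsHomLift (𝟙 R) (s ≫ θ) := IsHomLift.comp_lift_id_right 𝒳.p (𝟙 R) s θ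
    have hk : 𝒳.p.IsHomLift (𝟙 o'.left) (inv θ ≫ s ≫ θ) :=
      IsHomLift.comp_lift_id_right 𝒳.p (𝟙 R) (inv θ) (s ≫ θ)
    have hsec : ∀ (k : Y.obj o' ⟶ Y.obj o') (hk : 𝒳.p.IsHomLift (𝟙 o'.left) k),
        acls Y C o' k hk ≫ aH = (yon S).map h ≫ (yon S).map g := fun k hk => by
      rw [acls_comp Y C hk, ← Functor.map_comp]; rfl
    have he : inv θ ≫ s ≫ θ = 𝟙 (Y.obj o') := by
      refine acls_inj Y C hk (lift_id Y o') ?_
      haveI := hm
      have e := congrArg (· ≫ pullback.fst aH ((yon S).map g))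
        ((cancel_mono (pullback.snd aH ((yon S).map g))).1
          ((pullback.lift_snd _ _ (hsec _ hk)).trans (pullback.lift_snd _ _ (hsec _ (lift_id Y o'))).symm))
      simp only [pullback.lift_fst] at e
      exact e
    rw [IsIso.inv_comp_eq, Category.comp_id] at he
    exact (cancel_mono θ).1 (he.trans (Category.id_comp _).symm)

/-- The clean locus over a test object. -/
theorem exists_cleanLocus [IsFibGrpd 𝒳.p]
    (hI : AlgSt.RepByAlgSpWith (IsProperMor ⊓ LocP @LocallyOfFinitePresentation) (inertiaToBase (toSelf 𝒳)))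
    {T : Over S} (x : 𝒳.p.Fiber T) :
    ∃ V : T.left.Opens,
      (∀ (T' : Over S) (g : T' ⟶ T) (x' : 𝒳.p.Fiber T') (a : x'.1 ⟶ x.1), 𝒳.p.IsHomLift g a →
        (IsClean x'.1 ↔ Set.range g.left ⊆ (V : Set T.left))) ∧
      (IsAffine T.left → IsCompact (V : Set T.left)) := by
  haveI : IsFibGrpd (inertia (toSelf 𝒳)).p :=
    FibLib.isFibGrpd_inertia (FibLib.preservesStronglyCartesian_of_isFibGrpd _)
  let Y := ofPoint x
  obtain ⟨H, aH, hH, hP, -, ⟨C⟩⟩ := exists_classifier hI (yV Y)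
  obtain ⟨V, hV, hVc⟩ := exists_monoLocus hH aH hP.1 hP.2
  refine ⟨V, fun T' g x' a ha => ?_, hVc⟩
  obtain ⟨k⟩ := nonempty_evalAtId_ofPoint_iso x
  let n : Y.obj (Over.mk g) ⟶ x.1 := Y.map (toId (Over.mk g)) ≫ k.hom.1
  haveI : 𝒳.p.IsHomLift g (Y.map (toId (Over.mk g))) := lift_map Y (toId (Over.mk g))
  haveI : 𝒳.p.IsHomLift (𝟙 T) k.hom.1 := k.hom.2
  have hn : 𝒳.p.IsHomLift g n := IsHomLift.comp_lift_id_right 𝒳.p g (Y.map (toId (Over.mk g))) k.hom.1
  rw [isClean_iff_of_pullbacks a ha n hn, isClean_iff_mono Y C g, hV]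

theorem factor_iff {T' T : Scheme.{u}} (g : T' ⟶ T) (V : T.Opens) :
    (∃ g' : T' ⟶ (V : Scheme.{u}), g' ≫ V.ι = g) ↔ Set.range g ⊆ (V : Set T) := by
  constructor
  · rintro ⟨g', rfl⟩ _ ⟨t, rfl⟩
    rw [Scheme.Hom.comp_apply]
    exact (g' t).2
  · exact fun h => ⟨IsOpenImmersion.lift V.ι g (by rw [Scheme.Opens.range_ι]; exact h), IsOpenImmersion.lift_fac _ _ _⟩

/-- An open substack whose traces on affine schemes are quasi-compact has quasi-compact inclusion. -/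
theorem qc_subIncl [IsFibGrpd 𝒳.p] (h𝒳 : AlgSt.IsAlgStack Scheme.fppfPrecoverage 𝒳) {Q : 𝒳.obj → Prop}
    (hQ : AlgSt.IsOpenSubstack 𝒳 Q Scheme.fppfPrecoverage)
    (h : ∀ (T : Over S) (x : 𝒳.p.Fiber T), IsAffine T.left → ∃ V : T.left.Opens, IsCompact (V : Set T.left) ∧
      ∀ (T' : Over S) (g : T' ⟶ T) (x' : 𝒳.p.Fiber T') (a : x'.1 ⟶ x.1), 𝒳.p.IsHomLift g a →
        (Q x'.1 ↔ Set.range g.left ⊆ (V : Set T.left))) :
    AlgSt.RepByAlgSpWith IsQuasiCompactMor (AlgSt.subIncl 𝒳 Q) := by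
  refine (repByAlgSpWith_iff _ _).mpr fun U u => ?_
  obtain ⟨H, a, hH, ha, hPa⟩ := (repByAlgSpWith_iff _ _).mp hQ.2.2 U u
  refine ⟨H, a, hH, ha, AlgSpLib.isQuasiCompactMor_of_repWith hH (IsAlgSpace.yon_obj U)
    (AlgSpLib.repWith_of_forall_affine hPa.rep fun Z W hZ g fst snd sq => ?_)⟩
  haveI := hZ
  haveI := AlgStLib.isFibGrpd_of_isAlgStack hQ.2.1
  obtain ⟨v, hv⟩ := preimage_image_along ha
  have hrange : Set.range (Points.map a) =
      ptMap u ⁻¹' Set.range (AlgSt.Points.map (AlgSt.subIncl 𝒳 Q)) := by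
    rw [← Set.image_univ, ← Set.image_univ (f := AlgSt.Points.map (AlgSt.subIncl 𝒳 Q)), hv, Set.preimage_univ]
  let u' : AlgSt.ofSch Z ⥤ᵇ 𝒳 := BasedFunctor.comp (Stk.ofPshMap g.hom) u
  let o₁ : (AlgSt.ofSch Z).obj := ⟨Z, ⟨𝟙 Z⟩⟩
  obtain ⟨V, hVc, hV⟩ := h Z (Fiber.mk (p := 𝒳.p) (a := u'.obj o₁) (u'.w_obj o₁)) hZ
  have hpt : ∀ t : Z.left, t ∈ V ↔
      ptMap u' (Points.schemeHomeo Z t) ∈ Set.range (AlgSt.Points.map (AlgSt.subIncl 𝒳 Q)) := by
    intro t
    let R : Over S := Over.mk (Z.left.fromSpecResidueField t ≫ Z.hom)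
    let gt : R ⟶ Z := Over.homMk (Z.left.fromSpecResidueField t) rfl
    let ot : (AlgSt.ofSch Z).obj := ⟨R, ⟨gt⟩⟩
    let m : ot ⟶ o₁ := ⟨gt, ULift.ext _ _ (Category.comp_id gt)⟩
    haveI : (AlgSt.ofSch Z).p.IsHomLift gt m := IsHomLift.map _ m
    have hm : 𝒳.p.IsHomLift gt (u'.map m) := u'.preserves_isHomLift gt m
    have h1 := hV R gt (Fiber.mk (p := 𝒳.p) (a := u'.obj ot) (u'.w_obj ot)) (u'.map m) hm
    have e : ((AlgSp.J S).uliftYonedaEquiv.symm ot.sec : (yon S).obj ot.base ⟶ (yon S).obj Z) = (yon S).map gt :=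
      (AlgSp.J S).uliftYonedaEquiv.symm_apply_eq.2 rfl
    have hs : ∀ s : R.left, gt.left s = t := fun s => Scheme.fromSpecResidueField_apply t s
    have h2 : Q (u'.obj ot) ↔ ptMap u' (Points.schemeHomeo Z t) ∈
        Set.range (AlgSt.Points.map (AlgSt.subIncl 𝒳 Q)) := by
      conv_lhs => rw [openSubstack_eq h𝒳 hQ]
      rw [ptsIn_obj_iff (F := (yon S).obj Z) u' ot, e]
      have key : ∀ s : R.left, Points.ofPt ((yon S).map gt) s = Points.schemeHomeo Z t := fun s =>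
        (Points.schemeEquiv Z).symm.injective
          ((Points.toScheme_ofPt gt s).trans ((hs s).trans (Points.toScheme_ofScheme Z t).symm))
      exact ⟨fun H => key (IsLocalRing.closedPoint _) ▸ H (IsLocalRing.closedPoint _), fun H s => (key s).symm ▸ H⟩
    rw [← h2]
    refine ⟨fun ht => h1.2 ?_, fun hq => ?_⟩
    · rintro _ ⟨s, rfl⟩; rw [hs s]; exact ht
    · have := h1.1 hq ⟨IsLocalRing.closedPoint _, rfl⟩
      rwa [hs] at this
  have hcoe : Set.range snd.left = (V : Set Z.left) := by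
    ext t
    refine Iff.trans ?_ (hpt t).symm
    show t ∈ Set.range snd.left ↔ ptMap u' (Points.schemeHomeo Z t) ∈ _
    rw [ptMap_comp g u, Function.comp_apply, ← Set.mem_preimage, ← hrange, ← Set.mem_preimage,
      ← AlgSpLib.range_map_of_isPullback sq]
    constructor
    · rintro ⟨w, rfl⟩
      exact ⟨_, Points.map_yon_map_apply snd w⟩
    · rintro ⟨w, hw⟩
      obtain ⟨w, rfl⟩ := (Points.schemeHomeo W).surjective w
      rw [Points.map_yon_map_apply] at hw
      exact ⟨w, (Points.schemeHomeo Z).injective hw⟩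
  haveI : IsOpenImmersion snd.left := hPa.property g fst snd sq
  haveI : CompactSpace W.left := ⟨snd.left.isOpenEmbedding.isInducing.isCompact_iff.2 (by
    rw [Set.image_univ, hcoe]; exact hVc)⟩
  haveI : IsSeparated snd.left := inferInstance
  exact (quasiCompact_iff_compactSpace (f := snd.left)).2 inferInstance

end CleanOpenLib

end
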