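import Groth.Agent.CurvOpenLib.WhereUnr
import Groth.Agent.AlgSpLib.Qc

/-!
# Where a proper morphism to a scheme is a monomorphism, and quasi-compactness of that locus
-/

set_option autoImplicit false
set_option linter.style.haveILetI false
set_option backward.isDefEq.respectTransparency false
set_option backward.isDefEq.respectTransparency.types false
universe u

open CategoryTheory CategoryTheory.Limits AlgebraicGeometry AlgSp AlgSpLib Topology

noncomputable section

namespace CleanOpenLib

variable {S : Scheme.{u}}

theorem isCompact_of_isConstructible {X : Type u} [TopologicalSpace X] [CompactSpace X] [QuasiSeparatedSpace X]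
    [PrespectralSpace X] {C : Set X} (hC : IsConstructible C) : IsCompact C := by
  rcases isEmpty_or_nonempty X with hX | hX
  · rw [Set.eq_empty_of_isEmpty C]; exact isCompact_empty
  let T := {V : Set X | IsOpen V ∧ IsCompact V}
  haveI : Nonempty T := ⟨⟨Set.univ, isOpen_univ, CompactSpace.isCompact_univ⟩⟩
  induction C, hC using IsConstructible.induction_of_isTopologicalBasis (b := fun V : T => (V : Set X)) with
  | basis => simpa [T] using (PrespectralSpace.isTopologicalBasis (X := X))
  | isCompact_basis i => exact i.2.2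
  | sdiff i s hs => exact i.2.2.diff (isOpen_biUnion fun j _ => j.2.1)
  | union s hs t ht h1 h2 => exact h1.union h2

/-- A morphism of algebraic spaces is a monomorphism iff it is unramified and universally injective. -/
theorem mono_iff {F G : Sp S} (hF : IsAlgSpace F) (hG : IsAlgSpace G) {f : F ⟶ G}
    (hlft : LocP @LocallyOfFiniteType f) :
    Mono f ↔ LocP (@LocallyOfFiniteType ⊓ @FormallyUnramified) f ∧ IsUnivInjectiveMor f := by
  constructor
  · intro hm
    haveI hd : IsIso (pullback.diagonal f) := inferInstance
    refine ⟨unramified_of_lft_of_diagonal hlft ?_, (univInjective_iff_surjective_diagonal hF).2 ?_⟩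
    · exact (RepWith @IsOpenImmersion).of_isIso _
    · exact isSurjectiveMor_of_isIso _
  · rintro ⟨hu, hi⟩
    haveI : IsIso (pullback.diagonal f) := isIso_of_openImmersion_surjective
      (openImmersion_diagonal_of_unramified hF hG hu) ((univInjective_iff_surjective_diagonal hF).1 hi)
    exact (pullback.isIso_diagonal_iff f).1 inferInstance

variable {T : Over S} {H : Sp S}

/-- Where a proper morphism to a scheme is a monomorphism. -/
theorem exists_monoLocus (hH : IsAlgSpace H) (a : H ⟶ (yon S).obj T) (hp : IsProperMor a)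
    (hlfp : LocP @LocallyOfFinitePresentation a) :
    ∃ V : T.left.Opens,
      (∀ (T' : Over S) (g : T' ⟶ T),
        Mono (pullback.snd a ((yon S).map g)) ↔ Set.range g.left ⊆ (V : Set T.left)) ∧
      (IsAffine T.left → IsCompact (V : Set T.left)) := by
  let X : AlgSp.Space S := ⟨H, hH⟩
  let Z : AlgSp.Space S := ⟨(yon S).obj T, IsAlgSpace.yon_obj T⟩
  let f : X ⟶ Z := ObjectProperty.homMk a
  have hfq : (f ≫ 𝟙 Z).hom = a := Category.comp_id a
  have hft : LocP @LocallyOfFiniteType a := hp.2.1.1
  have hp1 : LocP @LocallyOfFiniteType (f ≫ 𝟙 Z).hom := by rw [hfq]; exact hft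
  have hid : IsPullback (𝟙 H) a a (𝟙 _) :=
    IsPullback.of_horiz_isIso ⟨(Category.id_comp _).trans (Category.comp_id _).symm⟩
  have hca : IsClosedMor a := hp.2.2 (IsAlgSpace.yon_obj T) (𝟙 _) (𝟙 H) a hid
  have hcs : IsClosedMap (Points.map (pullback.snd a a)) :=
    hp.2.2 hH a _ _ (IsPullback.of_hasPullback a a)
  have hp2 : IsClosedMor (f ≫ 𝟙 Z).hom := by rw [hfq]; exact hca
  have hp3 : IsClosedMap (Points.map (pullback.snd f.hom f.hom ≫ (f ≫ 𝟙 Z).hom)) := by
    rw [hfq]
    have e : Points.map (pullback.snd a a ≫ a) = Points.map a ∘ Points.map (pullback.snd a a) :=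
      funext fun x => Points.map_comp _ _ x
    show IsClosedMap (Points.map (pullback.snd a a ≫ a))
    rw [e]
    exact IsClosedMap.comp hca hcs
  let L : Set (Points Z.obj) := WhereUnr.unrLocus f (𝟙 Z) ∩ WhereUnr.injLocus f (𝟙 Z)
  have hL : IsOpen L := (WhereUnr.isOpen_unrLocus hp1 hp2).inter (WhereUnr.isOpen_injLocus hp1 hp3)
  let V : T.left.Opens := ⟨Points.schemeHomeo T ⁻¹' L, hL.preimage (Points.schemeHomeo T).continuous⟩
  refine ⟨V, fun T' g => ?_, fun haff => ?_⟩
  · let Z' : AlgSp.Space S := ⟨(yon S).obj T', IsAlgSpace.yon_obj T'⟩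
    let gZ : Z' ⟶ Z := ObjectProperty.homMk ((yon S).map g)
    let X' : AlgSp.Space S := ⟨_, isAlgSpace_pullback hH (IsAlgSpace.yon_obj T') (IsAlgSpace.yon_obj T) a ((yon S).map g)⟩
    let d : WhereLib.BC f (𝟙 Z) gZ :=
      { Y' := Z', gY := gZ, q' := 𝟙 Z'
        hY := IsPullback.of_vert_isIso ⟨(Category.comp_id _).trans (Category.id_comp _).symm⟩
        X' := X', gX := ObjectProperty.homMk (pullback.fst a ((yon S).map g))
        f' := ObjectProperty.homMk (pullback.snd a ((yon S).map g))
        hX := IsPullback.of_hasPullback a ((yon S).map g) }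
    rw [mono_iff X'.property (IsAlgSpace.yon_obj T')
      (locP_of_isPullback hH (IsAlgSpace.yon_obj T) (IsAlgSpace.yon_obj T') (IsPullback.of_hasPullback a _) hft)]
    refine (WhereUnr.unrInj_bc_iff hp1 d).trans ⟨?_, ?_⟩
    · rintro h _ ⟨t, rfl⟩
      show Points.schemeHomeo T (g.left t) ∈ L
      rw [← Points.map_yon_map_apply]
      exact h ⟨_, rfl⟩
    · rintro h _ ⟨z, rfl⟩
      obtain ⟨t, rfl⟩ := (Points.schemeHomeo T').surjective z
      show Points.map ((yon S).map g) (Points.schemeHomeo T' t) ∈ L
      rw [Points.map_yon_map_apply]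
      exact h ⟨t, rfl⟩
  · haveI := haff
    obtain ⟨W, c, hWa, hc, hcs'⟩ := exists_affine_chart
      (hp.2.1.2 (IsAlgSpace.yon_obj T) (isQuasiCompactSp_yon T) (𝟙 _) (𝟙 H) a hid)
    haveI := hWa
    obtain ⟨w, hw⟩ := (yon S).map_surjective (c ≫ a)
    have hb : RepWith @Etale (𝟙 ((yon S).obj T)) := repWith_id _ T
    have e : c ≫ a = (yon S).map w ≫ 𝟙 _ := by rw [hw, Category.comp_id]
    haveI : LocallyOfFinitePresentation w.left := hlfp c (𝟙 _) w hc hb e
    haveI : IsAffineHom w.left := isAffineHom_of_isAffine w.left
    -- the ramified points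
    let C₁ : Set T.left := w.left '' (RichLib.UnrLocus.locus w.left)ᶜ
    have hC₁ : IsConstructible C₁ :=
      (w.left.isLocallyConstructible_image
        (RichLib.UnrLocus.isLocallyConstructible_locus w.left).isConstructible.compl.isLocallyConstructible).isConstructible
    -- the pairs off the diagonal
    let P := pullback w w
    let p₁ : P ⟶ W := pullback.fst w w
    let p₂ : P ⟶ W := pullback.snd w w
    have sqP : IsPullback ((yon S).map p₁) ((yon S).map p₂) ((yon S).map w) ((yon S).map w) :=
      (IsPullback.of_hasPullback w w).map (yon S)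
    let φ := pullback.map ((yon S).map w) ((yon S).map w) a a c c (𝟙 _)
      (by rw [Category.comp_id, hw]) (by rw [Category.comp_id, hw])
    have hφ : RepWith @Surjective φ := MorphismProperty.pullbackMap hcs' hcs' hw hw
    let l : (yon S).obj P ⟶ pullback a a := sqP.isoPullback.hom ≫ φ
    have hl : Function.Surjective (Points.map l) := map_surjective_of_repWith
      (((RepWith (S := S) @Surjective).cancel_left_of_respectsIso sqP.isoPullback.hom φ).2 hφ)
    have hlsnd : l ≫ pullback.snd a a = (yon S).map p₂ ≫ c := by
      rw [Category.assoc, show φ ≫ pullback.snd a a = pullback.snd _ _ ≫ c from pullback.lift_snd _ _ _,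
        ← Category.assoc, sqP.isoPullback_hom_snd]
    have hd : RepWith @IsClosedImmersion (pullback.diagonal a) := hp.1
    have sqD := hd.rep.isPullback l
    let D := hd.rep.snd l
    haveI : IsClosedImmersion D.left :=
      (repWith_yon_map_iff (P := (@IsClosedImmersion : MorphismProperty Scheme.{u})) _).1
        (repWith_of_isPullback sqD hd)
    haveI : LocallyOfFinitePresentation D.left :=
      (repWith_yon_map_iff (P := (@LocallyOfFinitePresentation : MorphismProperty Scheme.{u})) _).1
        (repWith_of_isPullback sqD (repWith_lfp_diagonal hH (IsAlgSpace.yon_obj T) hft))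
    haveI : IsAffineHom (p₂ ≫ w).left := by
      haveI : IsAffineHom p₂.left := MorphismProperty.of_isPullback (P := @IsAffineHom)
        ((IsPullback.of_hasPullback w w).map (Over.forget S)) (show IsAffineHom w.left from inferInstance)
      rw [Over.comp_left]; infer_instance
    haveI : LocallyOfFinitePresentation (p₂ ≫ w).left := by
      haveI : LocallyOfFinitePresentation p₂.left := MorphismProperty.of_isPullback (P := @LocallyOfFinitePresentation)
        ((IsPullback.of_hasPullback w w).map (Over.forget S)) (show LocallyOfFinitePresentation w.left from inferInstance)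
      rw [Over.comp_left]; infer_instance
    let C₂ : Set T.left := (p₂ ≫ w).left '' (Set.range D.left)ᶜ
    have hC₂ : IsConstructible C₂ := by
      haveI : IsAffine P.left := isAffine_of_isAffineHom (p₂ ≫ w).left
      refine ((p₂ ≫ w).left.isLocallyConstructible_image (IsConstructible.compl ?_).isLocallyConstructible).isConstructible
      rw [← Set.image_univ]
      exact (D.left.isLocallyConstructible_image IsConstructible.univ.isLocallyConstructible).isConstructible
    have hch : ∀ u : W.left, UnrSpace.UnrAt a (Points.ofPt c u) ↔ u ∈ RichLib.UnrLocus.locus w.left :=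
      fun u => UnrSpace.locPAt_iff_chart hft hc hb e u
    have hptc : ∀ u : W.left, Points.map c (Points.schemeHomeo W u) = Points.ofPt c u := fun u => by
      rw [show Points.schemeHomeo W u = Points.ofPt (𝟙 _) u from rfl, Points.map_ofPt, Category.id_comp]
    have hmapa : ∀ u : W.left, Points.map a (Points.ofPt c u) = Points.schemeHomeo T (w.left u) := fun u => by
      rw [← hptc, ← Points.map_comp, ← hw, Points.map_yon_map_apply]
    have hq2 : ∀ p : P.left,
        Points.map (pullback.snd a a ≫ a) (Points.map l (Points.schemeHomeo P p)) =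
          Points.schemeHomeo T ((p₂ ≫ w).left p) := fun p => by
      rw [← Points.map_comp, ← Category.assoc, hlsnd, Category.assoc, ← hw, ← Functor.map_comp,
        Points.map_yon_map_apply]
    have hrD : ∀ p : P.left, Points.map l (Points.schemeHomeo P p) ∈ Set.range (Points.map (pullback.diagonal a)) ↔
        p ∈ Set.range D.left := fun p => by
      rw [← Set.mem_preimage, ← range_map_of_isPullback sqD]
      constructor
      · rintro ⟨d, hd'⟩
        obtain ⟨d, rfl⟩ := (Points.schemeHomeo _).surjective d
        rw [Points.map_yon_map_apply] at hd'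
        exact ⟨d, (Points.schemeHomeo P).injective hd'⟩
      · rintro ⟨d, rfl⟩
        exact ⟨_, Points.map_yon_map_apply D d⟩
    have hV : (V : Set T.left) = (C₁ ∪ C₂)ᶜ := by
      ext t
      show Points.schemeHomeo T t ∈ L ↔ _
      simp only [L, WhereUnr.unrLocus, WhereUnr.injLocus, hfq, Set.mem_inter_iff, Set.mem_compl_iff, Set.mem_union,
        not_or]
      show (¬ Points.schemeHomeo T t ∈ Points.map a '' {x | UnrSpace.UnrAt a x}ᶜ ∧
        ¬ Points.schemeHomeo T t ∈ Points.map (pullback.snd a a ≫ a) ''
          (Points.map (pullback.diagonal a) '' {x | UnrSpace.UnrAt a x})ᶜ) ↔ _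
      constructor
      · rintro ⟨h1, h2⟩
        refine ⟨?_, ?_⟩
        · rintro ⟨u, hu, rfl⟩
          exact h1 ⟨_, fun h => hu ((hch u).1 h), hmapa u⟩
        · rintro ⟨p, hp', rfl⟩
          exact h2 ⟨_, fun h => hp' ((hrD p).1 (Set.image_subset_range _ _ h)), hq2 p⟩
      · rintro ⟨h1, h2⟩
        have hx1 : ∀ x, ¬ UnrSpace.UnrAt a x → Points.map a x ≠ Points.schemeHomeo T t := by
          intro x hx hxt
          obtain ⟨u, rfl⟩ := surjective_ofPt hcs' x
          exact h1 ⟨u, fun h => hx ((hch u).2 h), (Points.schemeHomeo T).injective ((hmapa u).symm.trans hxt)⟩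
        refine ⟨fun ⟨x, hx, hxt⟩ => hx1 x hx hxt, ?_⟩
        rintro ⟨y, hy, hyt⟩
        by_cases hr : y ∈ Set.range (Points.map (pullback.diagonal a))
        · obtain ⟨x, rfl⟩ := hr
          refine hx1 x (fun h => hy ⟨x, h, rfl⟩) ?_
          rw [← hyt, ← Points.map_comp, pullback.diagonal_snd_assoc]
        · obtain ⟨y, rfl⟩ := hl y
          obtain ⟨p, rfl⟩ := (Points.schemeHomeo P).surjective y
          exact h2 ⟨p, fun h => hr ((hrD p).2 h), (Points.schemeHomeo T).injective ((hq2 p).symm.trans hyt)⟩
    rw [hV]
    exact isCompact_of_isConstructible (hC₁.union hC₂).compl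

end CleanOpenLib

end
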